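import Mathlib
import Groth.Prelude.Def_CohB1
import Groth.Agent.Lib.Helper14.Dehomog
import Groth.Agent.Lib.Helper13.ProjCover

/-!
# Projective space is smooth over the base
-/

set_option autoImplicit false
universe u

open CategoryTheory Limits AlgebraicGeometry MvPolynomial HomogeneousLocalization

namespace Groth.Agent.Lib.Helper28.PnSm

open Groth.Agent.Lib.Helper14.Dehomog

variable (n : ℕ) (R : Type u) [CommRing R]

/-- The structure map of the `i`-th chart, as a ring homomorphism. -/
noncomputable def chartHom (i : Fin (n + 1)) : R →+* Away (CohB1.polyGrading n R) (X i) :=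
  (fromZeroRingHom (CohB1.polyGrading n R) (Submonoid.powers (X i))).comp
      (algebraMap R (CohB1.polyGrading n R 0))

lemma chartHom_eq (i : Fin (n + 1)) :
    chartHom n R i = (Φ n R i).comp (C : R →+* MvPolynomial {j : Fin (n + 1) // j ≠ i} R) := by
  ext r
  simp [chartHom, Φ]

lemma smooth_chartHom (i : Fin (n + 1)) : (chartHom n R i).Smooth := by
  rw [chartHom_eq]
  refine RingHom.Smooth.comp ?_ (RingHom.Smooth.of_bijective (Φ_bijective n R i))
  have : Algebra.Smooth R (MvPolynomial {j : Fin (n + 1) // j ≠ i} R) :=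
    ⟨inferInstance, inferInstance⟩
  exact RingHom.smooth_algebraMap.mpr this

lemma X_mem (i : Fin (n + 1)) :
    (X i : MvPolynomial (Fin (n + 1)) R) ∈ CohB1.polyGrading n R 1 := isHomogeneous_X R i

/-- The structure morphism, typed on `Proj`. -/
noncomputable def toSpec' : Proj (CohB1.polyGrading n R) ⟶ Spec (CommRingCat.of R) :=
  Proj.toSpecZero (CohB1.polyGrading n R) ≫
    Spec.map (CommRingCat.ofHom (algebraMap R (CohB1.polyGrading n R 0)))

lemma awayι_toSpec (i : Fin (n + 1)) :
    Proj.awayι (CohB1.polyGrading n R) (X i) (m := 1) (X_mem n R i) one_pos ≫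
      toSpec' n R = Spec.map (CommRingCat.ofHom (chartHom n R i)) := by
  rw [toSpec', Proj.awayι_toSpecZero_assoc, ← Spec.map_comp]
  rfl

lemma smooth_toSpec' : Smooth (toSpec' n R) := by
  have hcov : ⨆ j : Fin (n + 1), Proj.basicOpen (CohB1.polyGrading n R) (X j) = ⊤ :=
    Proj.iSup_basicOpen_eq_top' (CohB1.polyGrading n R) _
      (fun j => ⟨1, isHomogeneous_X R j⟩) (Groth.Agent.Lib.Helper13.ProjCover.adjoin_X_eq_top n R)
  refine (IsZariskiLocalAtSource.iff_of_iSup_eq_top (P := @Smooth)
    (f := toSpec' n R) _ hcov).mpr ?_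
  intro i
  have h1 : (Proj.basicOpen (CohB1.polyGrading n R) (X i)).ι =
      (Proj.basicOpenIsoSpec (CohB1.polyGrading n R) (X i) (m := 1) (X_mem n R i)
        one_pos).hom ≫
      Proj.awayι (CohB1.polyGrading n R) (X i) (m := 1) (X_mem n R i) one_pos := by
    rw [← Proj.basicOpenIsoSpec_inv_ι, Iso.hom_inv_id_assoc]
  rw [h1, Category.assoc, awayι_toSpec,
    MorphismProperty.cancel_left_of_respectsIso (P := @Smooth),
    HasRingHomProperty.Spec_iff (P := @Smooth)]
  exact smooth_chartHom n R i

instance smooth_toSpec : Smooth (CohB1.ProjSpace.toSpec n R) := smooth_toSpec' n R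

instance smooth_toBase (S : Scheme.{u}) : Smooth (CohB1.ProjSpaceOver.toBase n S) :=
  MorphismProperty.pullback_snd _ _ (smooth_toSpec n (ULift.{u} ℤ))

end Groth.Agent.Lib.Helper28.PnSm
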