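import Mathlib
import Groth.Prelude.Def_CohB1
import Groth.Agent.Lib.Helper1.ProjSpaceFT
import Groth.Agent.Lib.Helper28.PnSm.Smooth

/-!
# Affine schemes of finite type immerse into a projective space over the base
-/

set_option autoImplicit false
universe u

open CategoryTheory Limits AlgebraicGeometry MvPolynomial HomogeneousLocalization

namespace Groth.Agent.Lib.Helper28.PnSm

open Groth.Agent.Lib.Helper14.Dehomog Groth.Agent.Lib.Helper1.ProjSpaceFT

/-- `P^n_R ⟶ Spec R` is proper. -/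
instance isProper_toSpec (n : ℕ) (R : Type u) [CommRing R] :
    IsProper (CohB1.ProjSpace.toSpec n R) := by
  haveI : IsClosedImmersion
      (Spec.map (CommRingCat.ofHom (algebraMap R ↥(CohB1.polyGrading n R 0)))) :=
    IsClosedImmersion.spec_of_surjective _ (algebraMap_polyGrading_zero_surjective n R)
  change IsProper (Proj.toSpecZero (CohB1.polyGrading n R) ≫
    Spec.map (CommRingCat.ofHom (algebraMap R ↥(CohB1.polyGrading n R 0))))
  infer_instance

instance isProper_toBase (n : ℕ) (S : Scheme.{u}) : IsProper (CohB1.ProjSpaceOver.toBase n S) :=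
  MorphismProperty.pullback_snd _ _ (isProper_toSpec n (ULift.{u} ℤ))

/-- The base ring. -/
abbrev R0 : Type u := ULift.{u} ℤ

/-- The base scheme `Spec ℤ`. -/
noncomputable abbrev T0 : Scheme.{u} := Spec (CommRingCat.of R0)

lemma hom_T0_ext {Z : Scheme.{u}} (a b : Z ⟶ T0) : a = b :=
  specULiftZIsTerminal.hom_ext a b

/-- The `0`-th chart of projective space. -/
noncomputable def chart (n : ℕ) :
    Spec (CommRingCat.of (Away (CohB1.polyGrading n R0) (X 0))) ⟶ CohB1.ProjSpace n R0 :=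
  Proj.awayι (CohB1.polyGrading n R0) (X 0) (m := 1) (X_mem n R0 0) one_pos

instance (n : ℕ) : IsOpenImmersion (chart n) :=
  (inferInstance : IsOpenImmersion
    (Proj.awayι (CohB1.polyGrading n R0) (X 0) (m := 1) (X_mem n R0 0) one_pos))

/-- The unique ring homomorphism from `ULift ℤ`. -/
noncomputable def fromR0 (B : Type u) [CommRing B] : R0 →+* B :=
  (Int.castRingHom B).comp (ULift.ringEquiv : R0 ≃+* ℤ).toRingHom

section Affine

variable {U V : Scheme.{u}} [IsAffine U] [IsAffine V] (f₀ : U ⟶ V)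

/-- Key lemma: an affine scheme of finite type over an affine scheme `V` is a closed subscheme of
a standard chart of `P^n × V`. -/
theorem exists_closedImmersion_chart (hf : f₀.appTop.hom.FiniteType) (a : V ⟶ T0) :
    ∃ (n : ℕ) (g₀ : U ⟶ pullback (chart n ≫ CohB1.ProjSpace.toSpec n R0) a),
      IsClosedImmersion g₀ ∧ g₀ ≫ pullback.snd _ _ = f₀ := by
  algebraize [f₀.appTop.hom]
  obtain ⟨n, F, hF⟩ := Algebra.FiniteType.iff_quotient_mvPolynomial''.mp
    (inferInstance : Algebra.FiniteType Γ(V, ⊤) Γ(U, ⊤))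
  let e : Fin n ≃ {j : Fin (n + 1) // j ≠ 0} := finSuccAboveEquiv 0
  -- the images of the variables
  let b : {j : Fin (n + 1) // j ≠ 0} → Γ(U, ⊤) := fun j => F (X (e.symm j))
  let θ₀ : MvPolynomial {j : Fin (n + 1) // j ≠ 0} R0 →+* Γ(U, ⊤) :=
    eval₂Hom (fromR0 Γ(U, ⊤)) b
  let θ : Away (CohB1.polyGrading n R0) (X 0) →+* Γ(U, ⊤) := θ₀.comp (Ψ n R0 0)
  have hθΦ : ∀ p, θ (Φ n R0 0 p) = θ₀ p := fun p => by
    have := congrArg (fun h => h p) (Ψ_comp_Φ n R0 0)
    simp only [RingHom.comp_apply, RingHom.id_apply] at this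
    simp only [θ, RingHom.comp_apply, this]
  let u₁ : U ⟶ Spec (CommRingCat.of (Away (CohB1.polyGrading n R0) (X 0))) :=
    U.toSpecΓ ≫ Spec.map (CommRingCat.ofHom θ)
  have hu₁ : u₁.appTop = (Scheme.ΓSpecIso _).hom ≫ CommRingCat.ofHom θ := by
    simp only [u₁, Scheme.Hom.comp_appTop, Scheme.toSpecΓ_appTop]
    exact Scheme.ΓSpecIso_naturality _
  let g₀ : U ⟶ pullback (chart n ≫ CohB1.ProjSpace.toSpec n R0) a :=
    pullback.lift u₁ f₀ (hom_T0_ext _ _)
  refine ⟨n, g₀, ?_, pullback.lift_snd _ _ _⟩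
  apply IsClosedImmersion.of_surjective_of_isAffine
  -- surjectivity on global sections
  have h1 : ∀ x, (u₁.appTop.hom x) ∈ (g₀.appTop.hom).range := by
    intro x
    have : u₁ = g₀ ≫ pullback.fst _ _ := (pullback.lift_fst _ _ _).symm
    rw [this, Scheme.Hom.comp_appTop]
    exact ⟨_, rfl⟩
  have h2 : ∀ x, (f₀.appTop.hom x) ∈ (g₀.appTop.hom).range := by
    intro x
    have : f₀ = g₀ ≫ pullback.snd _ _ := (pullback.lift_snd _ _ _).symm
    rw [this, Scheme.Hom.comp_appTop]
    exact ⟨_, rfl⟩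
  have h3 : ∀ j, b j ∈ (g₀.appTop.hom).range := by
    intro j
    have hb : b j = θ (Φ n R0 0 (X j)) := by
      rw [hθΦ]; simp [θ₀]
    rw [hb]
    have := h1 ((Scheme.ΓSpecIso _).inv (Φ n R0 0 (X j)))
    rw [hu₁] at this
    simpa using this
  intro y
  obtain ⟨p, rfl⟩ := hF y
  change F p ∈ (g₀.appTop.hom).range
  induction p using MvPolynomial.induction_on with
  | C r =>
    have : F (C r) = f₀.appTop.hom r := by
      rw [← MvPolynomial.algebraMap_eq, AlgHom.commutes]; rfl
    rw [this]; exact h2 r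
  | add p q hp hq => rw [map_add]; exact Subring.add_mem _ hp hq
  | mul_X p i hp =>
    rw [map_mul]
    refine Subring.mul_mem _ hp ?_
    have := h3 (e i)
    simpa [b] using this

end Affine

/-- An affine open of finite type over an affine open of the base factors as an open immersion,
followed by a closed immersion into a projective space over the base. -/
theorem exists_factor {X Y : Scheme.{u}} [IsNoetherian X] (f : X ⟶ Y) [LocallyOfFiniteType f]
    (U : X.Opens) (hU : IsAffineOpen U) (V : Y.Opens) (hV : IsAffineOpen V) (hUV : U ≤ f ⁻¹ᵁ V) :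
    ∃ (W P : Scheme.{u}) (g : (U : Scheme.{u}) ⟶ W) (h : W ⟶ P) (k : P ⟶ Y),
      IsOpenImmersion g ∧ IsClosedImmersion h ∧ Smooth k ∧ IsProper k ∧
        g ≫ h ≫ k = U.ι ≫ f := by
  haveI : IsAffine ↑U := hU
  haveI : IsAffine ↑V := hV
  have hf₀ : (f.resLE V U hUV).appTop.hom.FiniteType :=
    (HasRingHomProperty.iff_of_isAffine (P := @LocallyOfFiniteType)).mp inferInstance
  obtain ⟨n, g₀, hg₀, hg₀f⟩ := exists_closedImmersion_chart (f.resLE V U hUV) hf₀
    (V.ι ≫ specULiftZIsTerminal.from Y)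
  let j : pullback (chart n ≫ CohB1.ProjSpace.toSpec n R0) (V.ι ≫ specULiftZIsTerminal.from Y) ⟶
      CohB1.ProjSpaceOver n Y :=
    pullback.map (chart n ≫ CohB1.ProjSpace.toSpec n R0) (V.ι ≫ specULiftZIsTerminal.from Y)
      (CohB1.ProjSpace.toSpec n R0) (specULiftZIsTerminal.from Y) (chart n) V.ι (𝟙 _)
      (by rw [Category.comp_id]) (by rw [Category.comp_id])
  haveI : IsOpenImmersion j :=
    Scheme.pullback_map_isOpenImmersion _ _ _ _ _ _ _ _ _
  haveI : TopologicalSpace.NoetherianSpace ↥(U : Scheme.{u}) :=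
    inferInstanceAs (TopologicalSpace.NoetherianSpace (U : Set X))
  haveI : IsImmersion (g₀ ≫ j) := inferInstance
  haveI : QuasiCompact (g₀ ≫ j) := inferInstance
  refine ⟨(g₀ ≫ j).image, CohB1.ProjSpaceOver n Y, (g₀ ≫ j).toImage, (g₀ ≫ j).imageι,
    CohB1.ProjSpaceOver.toBase n Y, inferInstance, inferInstance, inferInstance, inferInstance, ?_⟩
  rw [← Category.assoc, (g₀ ≫ j).toImage_imageι, Category.assoc]
  have hj : j ≫ CohB1.ProjSpaceOver.toBase n Y = pullback.snd _ _ ≫ V.ι := by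
    dsimp only [j, CohB1.ProjSpaceOver.toBase]
    exact pullback.lift_snd _ _ _
  rw [hj, ← Category.assoc, hg₀f, Scheme.Hom.resLE_comp_ι]

end Groth.Agent.Lib.Helper28.PnSm
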